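import Mathlib
import Cfsg.Prelude.Def_Steinberg
import Cfsg.Prelude.Def_ChevG2

/-!
The seven-dimensional module of `G₂` over the field of three elements, given on root elements,
with its invariant alternating trilinear form.

Coordinates: the weights `2a+b, a+b, a, 0, -a, -(a+b), -(2a+b)`.
-/

set_option autoImplicit false
set_option maxRecDepth 100000

namespace Cfsg.Agent.H90.G2Three

open Cfsg.Lie

/-- The field with three elements. -/
inductive K3 | o | i | m
  deriving DecidableEq

namespace K3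

instance : Fintype K3 := ⟨{o, i, m}, fun x => by cases x <;> decide⟩

def add : K3 → K3 → K3
  | o, x => x
  | x, o => x
  | i, i => m | i, m => o
  | m, i => o | m, m => i

def mul : K3 → K3 → K3
  | o, _ => o
  | _, o => o
  | i, x => x
  | x, i => x
  | m, m => i

def neg : K3 → K3
  | o => o | i => m | m => i

instance : Zero K3 := ⟨o⟩
instance : One K3 := ⟨i⟩
instance : Add K3 := ⟨add⟩
instance : Mul K3 := ⟨mul⟩
instance : Neg K3 := ⟨neg⟩
instance : Inv K3 := ⟨id⟩

instance : Field K3 where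
  add_assoc := by decide
  zero_add := by decide
  add_zero := by decide
  add_comm := by decide
  neg_add_cancel := by decide
  mul_assoc := by decide
  one_mul := by decide
  mul_one := by decide
  mul_comm := by decide
  zero_mul := by decide
  mul_zero := by decide
  left_distrib := by decide
  right_distrib := by decide
  exists_pair_ne := ⟨o, i, by decide⟩
  mul_inv_cancel := by decide
  inv_zero := rfl
  nsmul := nsmulRec
  zsmul := zsmulRec
  nnqsmul := _
  nnqsmul_def := fun _ _ => rfl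
  qsmul := _
  qsmul_def := fun _ _ => rfl

theorem card_eq : Fintype.card K3 = 3 := rfl

theorem three_eq (x : K3) : x = 0 ∨ x = 1 ∨ x = 1 + 1 := by revert x; decide

/-- The list of scalars. -/
def els : List K3 := [K3.o, K3.i, K3.m]

theorem mem_els (x : K3) : x ∈ els := by cases x <;> simp [els]

end K3

/-- The module. -/
abbrev V := K3 × K3 × K3 × K3 × K3 × K3 × K3

/-- A root element. -/
def act (r : ℕ) (t : K3) : V → V
  | (a, b, c, d, e, f, g) =>
    match r with
    | 0 => (a, b, c, d, e, f - t * a, g - t * b)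
    | 1 => (a, b, c, d, e + t * a, f, g - t * c)
    | 2 => (a, b, c, d - t * a, e + t * b, f + t * c, g + t * d + t * t * a)
    | 3 => (a, b, c - t * a, d + t * b, e, f + t * d - t * t * b, g + t * e)
    | 4 => (a, b + t * a, c, d + t * c, e - t * d + t * t * c, f, g + t * f)
    | 5 => (a, b, c + t * b, d, e, f + t * e, g)
    | 6 => (a, b + t * c, c, d, e + t * f, f, g)
    | 7 => (a + t * b, b, c - t * d + t * t * e, d + t * e, e, f + t * g, g)
    | 8 => (a - t * c, b - t * d - t * t * f, c, d - t * f, e + t * g, f, g)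
    | 9 => (a + t * d + t * t * g, b + t * e, c + t * f, d - t * g, e, f, g)
    | 10 => (a + t * e, b, c - t * g, d, e, f, g)
    | 11 => (a - t * f, b - t * g, c, d, e, f, g)
    | _ => (a, b, c, d, e, f, g)

theorem act_add (r : ℕ) (t : K3) (x y : V) : act r t (x + y) = act r t x + act r t y := by
  obtain ⟨a, b, c, d, e, f, g⟩ := x
  obtain ⟨a', b', c', d', e', f', g'⟩ := y
  rcases r with _|_|_|_|_|_|_|_|_|_|_|_|_ <;> simp [act, Prod.ext_iff] <;> ring_nf <;> simp

/-- The coordinate vectors. -/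
def basis : List V :=
  [(1, 0, 0, 0, 0, 0, 0), (0, 1, 0, 0, 0, 0, 0), (0, 0, 1, 0, 0, 0, 0), (0, 0, 0, 1, 0, 0, 0),
   (0, 0, 0, 0, 1, 0, 0), (0, 0, 0, 0, 0, 1, 0), (0, 0, 0, 0, 0, 0, 1)]

theorem closed_eq_univ {S : Set V} (h0 : (0 : V) ∈ S) (hadd : ∀ x y, x ∈ S → y ∈ S → x + y ∈ S)
    (hb : ∀ x ∈ basis, x ∈ S) (x : V) : x ∈ S := by
  simp only [basis, List.forall_mem_cons, List.not_mem_nil, IsEmpty.forall_iff, implies_true,
    and_true] at hb
  obtain ⟨h1, h2, h3, h4, h5, h6, h7⟩ := hb
  have key : ∀ (v : K3 → V), v 0 = 0 → (∀ z w, v (z + w) = v z + v w) → v 1 ∈ S → ∀ z, v z ∈ S := by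
    intro v hv0 hva hv1 z
    rcases K3.three_eq z with rfl | rfl | rfl
    · exact hv0 ▸ h0
    · exact hv1
    · exact hva 1 1 ▸ hadd _ _ hv1 hv1
  obtain ⟨a, b, c, d, e, f, g⟩ := x
  have hx : ((a, b, c, d, e, f, g) : V) = (a, 0, 0, 0, 0, 0, 0) + (0, b, 0, 0, 0, 0, 0) +
      (0, 0, c, 0, 0, 0, 0) + (0, 0, 0, d, 0, 0, 0) + (0, 0, 0, 0, e, 0, 0) + (0, 0, 0, 0, 0, f, 0) +
      (0, 0, 0, 0, 0, 0, g) := by
    simp only [Prod.mk_add_mk, add_zero, zero_add]
  rw [hx]
  refine hadd _ _ (hadd _ _ (hadd _ _ (hadd _ _ (hadd _ _ (hadd _ _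
    (key (fun z => (z, 0, 0, 0, 0, 0, 0)) rfl ?_ h1 a)
    (key (fun z => (0, z, 0, 0, 0, 0, 0)) rfl ?_ h2 b))
    (key (fun z => (0, 0, z, 0, 0, 0, 0)) rfl ?_ h3 c))
    (key (fun z => (0, 0, 0, z, 0, 0, 0)) rfl ?_ h4 d))
    (key (fun z => (0, 0, 0, 0, z, 0, 0)) rfl ?_ h5 e))
    (key (fun z => (0, 0, 0, 0, 0, z, 0)) rfl ?_ h6 f))
    (key (fun z => (0, 0, 0, 0, 0, 0, z)) rfl ?_ h7 g)
  all_goals intro z w; simp only [Prod.mk_add_mk, add_zero]

/-- Applying a word of root elements. -/
def run (l : List (ℕ × K3)) (x : V) : V := l.foldr (fun p y => act p.1 p.2 y) x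

theorem run_append (l m : List (ℕ × K3)) (x : V) : run (l ++ m) x = run l (run m x) := by
  simp [run, List.foldr_append]

theorem run_add (l : List (ℕ × K3)) (x y : V) : run l (x + y) = run l x + run l y := by
  induction l with
  | nil => rfl
  | cons p l ih => simp only [run, List.foldr_cons] at ih ⊢; rw [ih, act_add]

theorem run_zero (l : List (ℕ × K3)) : run l 0 = 0 := by
  have h := run_add l 0 0
  rw [add_zero] at h
  exact left_eq_add.1 h

/-- Whether two words act equally on the coordinate vectors. -/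
def agree (l m : List (ℕ × K3)) : Bool := basis.all fun x => decide (run l x = run m x)

theorem run_eq_of_agree {l m : List (ℕ × K3)} (h : agree l m = true) (x : V) : run l x = run m x :=
  closed_eq_univ (S := {x | run l x = run m x}) (by simp [run_zero])
    (fun y z hy hz => by simp only [Set.mem_setOf_eq] at hy hz ⊢; rw [run_add, run_add, hy, hz])
    (fun y hy => of_decide_eq_true (List.all_eq_true.1 h y hy)) x

theorem inv_check : ((List.range 12).all fun r => K3.els.all fun t => agree [(r, -t), (r, t)] []) = true := by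
  decide +kernel

theorem act_neg (r : ℕ) (t : K3) (x : V) : act r (-t) (act r t x) = x := by
  by_cases hr : r < 12
  · exact run_eq_of_agree (List.all_eq_true.1
      (List.all_eq_true.1 inv_check r (List.mem_range.2 hr)) t (K3.mem_els t)) x
  · obtain ⟨a, b, c, d, e, f, g⟩ := x
    rcases r with _|_|_|_|_|_|_|_|_|_|_|_|_ <;> first | omega | rfl

/-- A root element as a permutation. -/
def gen (r : ℕ) (t : K3) : Equiv.Perm V where
  toFun := act r t
  invFun := act r (-t)
  left_inv x := act_neg r t x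
  right_inv x := by simpa using act_neg r (-t) x

theorem gen_inv (r : ℕ) (t : K3) : (gen r t)⁻¹ = gen r (-t) := Equiv.ext fun _ => rfl

/-- The permutation of a word. -/
def wordPerm (l : List (ℕ × K3)) : Equiv.Perm V := (l.map fun p => gen p.1 p.2).prod

theorem wordPerm_apply (l : List (ℕ × K3)) (x : V) : wordPerm l x = run l x := by
  induction l with
  | nil => rfl
  | cons p l ih => simp only [wordPerm, List.map_cons, List.prod_cons, Equiv.Perm.mul_apply] at ih ⊢; rw [ih]; rfl

theorem wordPerm_eq_of_agree {l m : List (ℕ × K3)} (h : agree l m = true) : wordPerm l = wordPerm m :=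
  Equiv.ext fun x => by rw [wordPerm_apply, wordPerm_apply, run_eq_of_agree h]

/-- The invariant trilinear form. -/
def phi : V → V → V → K3
  | (a0, a1, a2, a3, a4, a5, a6), (b0, b1, b2, b3, b4, b5, b6), (c0, c1, c2, c3, c4, c5, c6) =>
    (a0 * (b4 * c5 - b5 * c4) + a4 * (b5 * c0 - b0 * c5) + a5 * (b0 * c4 - b4 * c0))
      - (a0 * (b3 * c6 - b6 * c3) + a3 * (b6 * c0 - b0 * c6) + a6 * (b0 * c3 - b3 * c0))
      + (a1 * (b2 * c6 - b6 * c2) + a2 * (b6 * c1 - b1 * c6) + a6 * (b1 * c2 - b2 * c1))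
      - (a1 * (b3 * c5 - b5 * c3) + a3 * (b5 * c1 - b1 * c5) + a5 * (b1 * c3 - b3 * c1))
      + (a2 * (b3 * c4 - b4 * c3) + a3 * (b4 * c2 - b2 * c4) + a4 * (b2 * c3 - b3 * c2))

theorem phi_add1 (x x' y z : V) : phi (x + x') y z = phi x y z + phi x' y z := by
  obtain ⟨a, b, c, d, e, f, g⟩ := x
  obtain ⟨a', b', c', d', e', f', g'⟩ := x'
  obtain ⟨p, q, r, s, t, u, v⟩ := y
  obtain ⟨p', q', r', s', t', u', v'⟩ := z
  simp only [phi, Prod.mk_add_mk]; ring

theorem phi_add2 (x y y' z : V) : phi x (y + y') z = phi x y z + phi x y' z := by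
  obtain ⟨a, b, c, d, e, f, g⟩ := y
  obtain ⟨a', b', c', d', e', f', g'⟩ := y'
  obtain ⟨p, q, r, s, t, u, v⟩ := x
  obtain ⟨p', q', r', s', t', u', v'⟩ := z
  simp only [phi, Prod.mk_add_mk]; ring

theorem phi_add3 (x y z z' : V) : phi x y (z + z') = phi x y z + phi x y z' := by
  obtain ⟨a, b, c, d, e, f, g⟩ := z
  obtain ⟨a', b', c', d', e', f', g'⟩ := z'
  obtain ⟨p, q, r, s, t, u, v⟩ := x
  obtain ⟨p', q', r', s', t', u', v'⟩ := y
  simp only [phi, Prod.mk_add_mk]; ring

theorem phi_check : ((List.range 12).all fun r => K3.els.all fun t => basis.all fun x => basis.all fun y =>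
    basis.all fun z => decide (phi (act r t x) (act r t y) (act r t z) = phi x y z)) = true := by
  decide +kernel

theorem phi_act (r : ℕ) (t : K3) (x y z : V) : phi (act r t x) (act r t y) (act r t z) = phi x y z := by
  by_cases hr : r < 12
  swap
  · have h : ∀ v : V, act r t v = v := fun ⟨a, b, c, d, e, f, g⟩ => by
      rcases r with _|_|_|_|_|_|_|_|_|_|_|_|_ <;> first | omega | rfl
    rw [h, h, h]
  have hc := List.all_eq_true.1 (List.all_eq_true.1 phi_check r (List.mem_range.2 hr)) t (K3.mem_els t)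
  have h00 : act r t 0 = 0 := by
    have h := act_add r t 0 0
    rw [add_zero] at h
    exact left_eq_add.1 h
  have z1 : ∀ y z, phi 0 y z = 0 := fun y z => left_eq_add.1 ((congrArg (phi · y z) (add_zero (0 : V))).symm.trans (phi_add1 0 0 y z))
  have z2 : ∀ x z, phi x 0 z = 0 := fun x z => left_eq_add.1 ((congrArg (phi x · z) (add_zero (0 : V))).symm.trans (phi_add2 x 0 0 z))
  have z3 : ∀ x y, phi x y 0 = 0 := fun x y => left_eq_add.1 ((congrArg (phi x y ·) (add_zero (0 : V))).symm.trans (phi_add3 x y 0 0))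
  refine closed_eq_univ (S := {x | ∀ y z, phi (act r t x) (act r t y) (act r t z) = phi x y z}) ?_ ?_ ?_ x y z
  · intro y z; rw [h00, z1, z1]
  · intro x x' hx hx' y z; rw [act_add, phi_add1, phi_add1, hx y z, hx' y z]
  intro x hx y
  refine closed_eq_univ (S := {y | ∀ z, phi (act r t x) (act r t y) (act r t z) = phi x y z}) ?_ ?_ ?_ y
  · intro z; rw [h00, z2, z2]
  · intro y y' hy hy' z; rw [act_add, phi_add2, phi_add2, hy z, hy' z]
  intro y hy z
  refine closed_eq_univ (S := {z | phi (act r t x) (act r t y) (act r t z) = phi x y z}) ?_ ?_ ?_ z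
  · show _ = _; rw [h00, z3, z3]
  · intro z z' hz hz'; show _ = _; rw [act_add, phi_add3, phi_add3, hz, hz']
  intro z hz
  exact of_decide_eq_true (List.all_eq_true.1 (List.all_eq_true.1 (List.all_eq_true.1 hc x hx) y hy) z hz)

theorem phi_run (l : List (ℕ × K3)) (x y z : V) : phi (run l x) (run l y) (run l z) = phi x y z := by
  induction l with
  | nil => rfl
  | cons p l ih => simp only [run, List.foldr_cons] at ih ⊢; rw [phi_act, ih]

end Cfsg.Agent.H90.G2Three
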