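import Mathlib
import Cfsg.Agent.H90.G2Three.Model
import Cfsg.Agent.H38.St.Groups
import Cfsg.Agent.H37.Chev.All

/-!
In `G₂(3)` the elements of order `7` and `13` generate their centralisers, and there is an element
of order `6`: both facts are read off the seven-dimensional module.
-/

set_option autoImplicit false
set_option maxRecDepth 100000

namespace Cfsg.Agent.H90.G2Three

open Cfsg.Lie

/-- The first relation. -/
theorem check1 : ((List.range 12).all fun r => K3.els.all fun t => K3.els.all fun u =>
    agree [(r, t), (r, u)] [(r, t + u)]) = true := by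
  decide +kernel

/-- The second relation for one root. -/
def rel2 (r : ℕ) : Bool := (List.range 12).all fun s =>
    decide (s = r) || decide (s = chevG2.neg r) ||
    K3.els.all fun t => K3.els.all fun u =>
      agree [(s, -u), (r, -t), (s, u), (r, t)] (chevG2.commWord K3 r s t u)

theorem check2a : ([0, 1, 2].all rel2) = true := by decide +kernel

theorem check2b : ([3, 4, 5].all rel2) = true := by decide +kernel

theorem check2c : ([6, 7, 8].all rel2) = true := by decide +kernel

theorem check2d : ([9, 10, 11].all rel2) = true := by decide +kernel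

/-- The second relation. -/
theorem check2 : (List.range 12).all rel2 = true := by
  rw [show List.range 12 = [0, 1, 2] ++ [3, 4, 5] ++ [6, 7, 8] ++ [9, 10, 11] from rfl]
  simp only [List.all_append, check2a, check2b, check2c, check2d, Bool.and_self]

/-- The third relation. -/
theorem check3 : ((List.range 12).all fun r => [K3.i, K3.m].all fun t => [K3.i, K3.m].all fun u =>
    agree (chevG2.hWord r t ++ chevG2.hWord r u) (chevG2.hWord r (t * u))) = true := by
  decide +kernel

theorem comm_lt : ((List.range 12).all fun r => (List.range 12).all fun s =>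
    (chevG2.commTerms r s).all fun c => decide (c.1 < 12)) = true := by decide +kernel

theorem neg_lt : ((List.range 12).all fun r => decide (chevG2.neg r < 12)) = true := by decide +kernel

theorem all_range {P : ℕ → Bool} {n r : ℕ} (h : (List.range n).all P = true) (hr : r < n) : P r = true :=
  List.all_eq_true.1 h r (List.mem_range.2 hr)

variable {F : Type*} [Field F] (ε : F ≃+* K3)

/-- Words over `F` read over the concrete field. -/
def wmap (l : List (ℕ × F)) : List (ℕ × K3) := l.map fun p => (p.1, ε p.2)

theorem lift_stWord (l : List (ℕ × F)) (hl : ∀ p ∈ l, p.1 < chevG2.nroots) :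
    FreeGroup.lift (fun p : Fin chevG2.nroots × F => gen p.1 (ε p.2)) (chevG2.stWord l) =
      wordPerm (wmap ε l) := by
  induction l with
  | nil => simp [ChevalleyDatum.stWord, wordPerm, wmap]
  | cons p l ih =>
    have hp : p.1 < chevG2.nroots := hl p List.mem_cons_self
    simp only [ChevalleyDatum.stWord, List.map_cons, List.prod_cons, map_mul] at ih ⊢
    rw [ih fun q hq => hl q (List.mem_cons_of_mem _ hq)]
    simp [ChevalleyDatum.stX, hp, wordPerm, wmap]

theorem rels : ∀ g ∈ chevG2.steinbergRels F,
    FreeGroup.lift (fun p : Fin chevG2.nroots × F => gen p.1 (ε p.2)) g = 1 := by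
  have hn : chevG2.nroots = 12 := rfl
  have hX : ∀ r t, r < chevG2.nroots → FreeGroup.lift (fun p : Fin chevG2.nroots × F => gen p.1 (ε p.2))
      (chevG2.stX r t) = gen r (ε t) := fun r t hr => by simp [ChevalleyDatum.stX, hr]
  have hH : ∀ r t, r < chevG2.nroots → FreeGroup.lift (fun p : Fin chevG2.nroots × F => gen p.1 (ε p.2))
      (chevG2.stH r t) = wordPerm (chevG2.hWord r (ε t)) := by
    intro r t hr
    have hneg : chevG2.neg r < chevG2.nroots := of_decide_eq_true (all_range neg_lt (hn ▸ hr))
    rw [ChevalleyDatum.stH, lift_stWord ε _ ?_]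
    · simp [wmap, ChevalleyDatum.hWord, ChevalleyDatum.nWord, map_inv₀]
    · simp [ChevalleyDatum.hWord, ChevalleyDatum.nWord, hr, hneg]
  rintro g ((⟨r, t, u, hr, rfl⟩ | ⟨r, s, t, u, hr, hs, h1, h2, rfl⟩) | ⟨r, t, u, hr, ht, hu, rfl⟩)
  · rw [map_mul, map_mul, map_inv, hX r t hr, hX r u hr, hX r _ hr, mul_inv_eq_one, map_add]
    have h := List.all_eq_true.1 (List.all_eq_true.1 (all_range check1 (hn ▸ hr)) (ε t) (K3.mem_els _)) (ε u) (K3.mem_els _)
    simpa [wordPerm] using wordPerm_eq_of_agree h
  · rw [map_mul, map_mul, map_mul, map_mul, map_inv, map_inv, map_inv, hX r t hr, hX s u hs,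
      lift_stWord ε _ ?_, gen_inv, gen_inv, mul_inv_eq_one]
    · have h0 := all_range check2 (hn ▸ hr)
      rw [rel2] at h0
      have h := all_range h0 (hn ▸ hs)
      simp only [Bool.or_eq_true, decide_eq_true_iff] at h
      have h3 := List.all_eq_true.1 (List.all_eq_true.1 ((h.resolve_left fun h' => h'.elim h1 h2)) (ε t) (K3.mem_els _)) (ε u) (K3.mem_els _)
      have e := wordPerm_eq_of_agree h3
      have ew : wmap ε (chevG2.commWord F r s t u) = chevG2.commWord K3 r s (ε t) (ε u) := by
        simp [wmap, ChevalleyDatum.commWord, List.map_map, Function.comp_def]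
      rw [ew]
      simpa [wordPerm, mul_assoc] using e
    · intro p hp
      simp only [ChevalleyDatum.commWord, List.mem_map] at hp
      obtain ⟨c, hc, rfl⟩ := hp
      exact of_decide_eq_true (List.all_eq_true.1 (all_range (all_range comm_lt (hn ▸ hr)) (hn ▸ hs)) c hc)
  · rw [map_mul, map_mul, map_inv, hH r t hr, hH r u hr, hH r _ hr, mul_inv_eq_one, map_mul]
    have hne : ∀ {x : F}, x ≠ 0 → ε x ∈ [K3.i, K3.m] := by
      intro x hx
      have hx' : ε x ≠ 0 := (map_ne_zero_iff ε ε.injective).2 hx
      cases hε : ε x <;> simp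
      exact hx' hε
    have h := List.all_eq_true.1 (List.all_eq_true.1 (all_range check3 (hn ▸ hr)) (ε t) (hne ht)) (ε u) (hne hu)
    have e := wordPerm_eq_of_agree h
    rwa [wordPerm, List.map_append, List.prod_append] at e

/-- The representation of the presented group. -/
def rep : chevG2.SteinbergGroup F →* Equiv.Perm V :=
  PresentedGroup.toGroup (rels ε)

theorem rep_gen {r : ℕ} (hr : r < chevG2.nroots) (t : F) : rep ε (chevG2.stGen F r t) = gen r (ε t) := by
  simp [rep, ChevalleyDatum.stGen, ChevalleyDatum.stX, hr]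
  rfl

theorem wordPerm_append (l m : List (ℕ × K3)) : wordPerm (l ++ m) = wordPerm l * wordPerm m := by
  simp [wordPerm]

theorem wordPerm_flatten (l : List (ℕ × K3)) (k : ℕ) :
    wordPerm (List.replicate k l).flatten = wordPerm l ^ k := by
  induction k with
  | zero => rfl
  | succ k ih => rw [pow_succ', ← ih, List.replicate_succ, List.flatten_cons, wordPerm_append]

theorem exists_word (g : chevG2.SteinbergGroup F) : ∃ l, rep ε g = wordPerm l := by
  have h : g ∈ Subgroup.closure (Set.range (PresentedGroup.of (rels := chevG2.steinbergRels F))) := by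
    rw [PresentedGroup.closure_range_of]; trivial
  induction h using Subgroup.closure_induction with
  | mem x hx =>
    obtain ⟨⟨r, t⟩, rfl⟩ := hx
    exact ⟨[((r : ℕ), ε t)], by simp [rep, wordPerm]⟩
  | one => exact ⟨[], map_one _⟩
  | mul x y _ _ hx hy =>
    obtain ⟨l, hl⟩ := hx; obtain ⟨m, hm⟩ := hy
    exact ⟨l ++ m, by rw [map_mul, hl, hm, wordPerm_append]⟩
  | inv x _ hx =>
    obtain ⟨l, hl⟩ := hx
    refine ⟨(l.map fun p => (p.1, -p.2)).reverse, ?_⟩
    rw [map_inv, hl]
    clear hl
    induction l with
    | nil => simp [wordPerm]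
    | cons p l ih =>
      rw [show wordPerm (p :: l) = gen p.1 p.2 * wordPerm l from rfl, mul_inv_rev, ih, gen_inv,
        List.map_cons, List.reverse_cons, wordPerm_append]
      simp [wordPerm]

theorem exists_rep {l : List (ℕ × K3)} (hl : ∀ p ∈ l, p.1 < chevG2.nroots) :
    ∃ g, rep ε g = wordPerm l := by
  induction l with
  | nil => exact ⟨1, map_one _⟩
  | cons p l ih =>
    obtain ⟨g, hg⟩ := ih fun q hq => hl q (List.mem_cons_of_mem _ hq)
    refine ⟨chevG2.stGen F p.1 (ε.symm p.2) * g, ?_⟩
    simp [rep_gen ε (hl p List.mem_cons_self), hg, wordPerm]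

/-- An element of order seven. -/
def w7 : List (ℕ × K3) := [(2, K3.i), (10, K3.m), (4, K3.m), (7, K3.m)]

/-- An element of order thirteen. -/
def w13 : List (ℕ × K3) := [(10, K3.m), (2, K3.m), (6, K3.i)]

/-- An element of order six. -/
def w6 : List (ℕ × K3) := [(7, K3.m), (4, K3.i)]

/-- The starting vector. -/
def start : V := (0, 1, 0, 0, 0, 0, 0)

/-- The first seven images of a vector. -/
def orb (w : List (ℕ × K3)) (x : V) : ℕ → List V
  | 0 => []
  | k + 1 => x :: orb w (run w x) k

/-- The increasing triples of indices. -/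
def triples : List (ℕ × ℕ × ℕ) :=
  (List.range 7).flatMap fun i => (List.range 7).flatMap fun j => (List.range 7).filterMap fun k =>
    if i < j ∧ j < k then some (i, j, k) else none

/-- The form on three entries of a list. -/
def phiAt (v : List V) (T : ℕ × ℕ × ℕ) : K3 := phi (v.getD T.1 0) (v.getD T.2.1 0) (v.getD T.2.2 0)

/-- The vectors with a given first coordinate. -/
def someV (a : K3) : List V :=
  K3.els.flatMap fun b => K3.els.flatMap fun c => K3.els.flatMap fun d =>
    K3.els.flatMap fun e => K3.els.flatMap fun f => K3.els.map fun g => (a, b, c, d, e, f, g)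

theorem mem_someV (x : V) : x ∈ someV x.1 := by
  obtain ⟨a, b, c, d, e, f, g⟩ := x
  simp only [someV, List.mem_flatMap, List.mem_map]
  exact ⟨b, K3.mem_els b, c, K3.mem_els c, d, K3.mem_els d, e, K3.mem_els e,
    f, K3.mem_els f, g, K3.mem_els g, rfl⟩

/-- Every vector whose orbit segment has the values of the form on the orbit of the start is in that orbit. -/
def isolated (w : List (ℕ × K3)) (o : ℕ) (a : K3) : Bool :=
  let v := orb w start 7
  let vals := triples.map fun T => (T, phiAt v T)
  let full := orb w start o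
  (someV a).all fun u =>
    let us := orb w u 7
    (!(vals.all fun p => decide (phiAt us p.1 = p.2))) || full.contains u

set_option synthInstance.maxSize 512 in
/-- Combinations giving the coordinate vectors. -/
def spans (w : List (ℕ × K3)) (cs : List (List ℕ)) : Bool :=
  decide ((cs.map fun c => ((c.map fun i => (orb w start 7).getD i (0 : V)).foldr (· + ·) (0 : V) : V)) = basis)

/-- The combinations for the element of order seven. -/
def cs7 : List (List ℕ) :=
  [[0, 0, 3, 3], [0], [0, 0, 1, 2, 3, 4, 5, 5, 6], [1, 1, 2, 2, 5, 6], [0, 0, 4, 4], [0, 2, 3, 5],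
    [0, 1, 2, 2, 3, 4, 5, 6]]

/-- The combinations for the element of order thirteen. -/
def cs13 : List (List ℕ) :=
  [[0, 0, 1, 1, 4, 4, 5, 5, 6], [0], [0, 1, 1, 3, 3, 4, 5, 5, 6], [0, 2, 2, 3, 4, 5], [1, 4, 4, 5, 5, 6],
    [2, 2, 3, 3, 4, 4, 6], [2, 2, 4, 4, 5, 6]]

theorem isolated7o : isolated w7 7 K3.o = true := by decide +kernel

theorem isolated7i : isolated w7 7 K3.i = true := by decide +kernel

theorem isolated7m : isolated w7 7 K3.m = true := by decide +kernel

theorem isolated7 : ∀ a, isolated w7 7 a = true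
  | .o => isolated7o
  | .i => isolated7i
  | .m => isolated7m

theorem isolated13o : isolated w13 13 K3.o = true := by decide +kernel

theorem isolated13i : isolated w13 13 K3.i = true := by decide +kernel

theorem isolated13m : isolated w13 13 K3.m = true := by decide +kernel

theorem isolated13 : ∀ a, isolated w13 13 a = true
  | .o => isolated13o
  | .i => isolated13i
  | .m => isolated13m

theorem spans_check : (spans w7 cs7 && spans w13 cs13) = true := by decide +kernel

theorem order_check : (agree (List.replicate 7 w7).flatten [] && !agree w7 [] &&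
    agree (List.replicate 13 w13).flatten [] && !agree w13 [] &&
    agree (List.replicate 6 w6).flatten [] && !agree (List.replicate 2 w6).flatten [] &&
    !agree (List.replicate 3 w6).flatten []) = true := by decide +kernel

theorem orb_getD (w : List (ℕ × K3)) : ∀ (n i : ℕ) (x : V), i < n → (orb w x n).getD i 0 = (wordPerm w ^ i) x := by
  intro n
  induction n with
  | zero => intro i x h; omega
  | succ n ih =>
    intro i x h
    rcases i with _ | i
    · rfl
    · rw [orb, List.getD_cons_succ, ih i _ (by omega), pow_succ, Equiv.Perm.mul_apply, wordPerm_apply]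

theorem mem_orb (w : List (ℕ × K3)) : ∀ (n : ℕ) (x u : V), u ∈ orb w x n → ∃ i, u = (wordPerm w ^ i) x := by
  intro n
  induction n with
  | zero => intro x u h; simp [orb] at h
  | succ n ih =>
    intro x u h
    rcases List.mem_cons.1 h with rfl | h
    · exact ⟨0, rfl⟩
    · obtain ⟨i, hi⟩ := ih _ _ h
      exact ⟨i + 1, by rw [hi, pow_succ, Equiv.Perm.mul_apply, wordPerm_apply]⟩

set_option synthInstance.maxSize 512 in
theorem commute_mem {w l : List (ℕ × K3)} {o : ℕ} {cs : List (List ℕ)} (hi : ∀ a, isolated w o a = true)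
    (hs : spans w cs = true) (hcs : ∀ c ∈ cs, ∀ i ∈ c, i < 7)
    (hc : Commute (wordPerm w) (wordPerm l)) : wordPerm l ∈ Subgroup.zpowers (wordPerm w) := by
  set u := run l start with hu
  have horb : ∀ i < 7, (orb w u 7).getD i 0 = run l ((orb w start 7).getD i 0) := by
    intro i hi
    rw [orb_getD w 7 i _ hi, orb_getD w 7 i _ hi, ← wordPerm_apply l, hu, ← wordPerm_apply l]
    exact congrArg (fun σ : Equiv.Perm V => σ start) (hc.pow_left i).eq
  have ht : ∀ T ∈ triples, T.1 < 7 ∧ T.2.1 < 7 ∧ T.2.2 < 7 := by decide +kernel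
  have h := List.all_eq_true.1 (hi u.1) u (mem_someV u)
  rw [Bool.or_eq_true, Bool.not_eq_true', List.contains_iff_mem] at h
  obtain ⟨k, hk⟩ := mem_orb w o start u <| h.resolve_left fun hf => by
    rw [List.all_eq_false] at hf
    obtain ⟨p, hp, hne⟩ := hf
    obtain ⟨T, hT, rfl⟩ := List.mem_map.1 hp
    obtain ⟨a, b, c⟩ := ht T hT
    refine hne (decide_eq_true ?_)
    simp only [phiAt, horb _ a, horb _ b, horb _ c, phi_run]
  refine ⟨(k : ℤ), ?_⟩
  simp only [zpow_natCast]
  set lk := (List.replicate k w).flatten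
  have hlk : wordPerm lk = wordPerm w ^ k := wordPerm_flatten w k
  rw [← hlk]
  refine Equiv.ext fun x => ?_
  rw [wordPerm_apply, wordPerm_apply]
  refine closed_eq_univ (S := {x | run lk x = run l x}) (by simp [run_zero])
    (fun y z hy hz => by
      show _ = _
      rw [run_add, run_add, show run lk y = run l y from hy, show run lk z = run l z from hz]) ?_ x
  intro y hy
  rw [← of_decide_eq_true hs] at hy
  obtain ⟨c, hc', rfl⟩ := List.mem_map.1 hy
  have key : ∀ c : List ℕ, (∀ i ∈ c, i < 7) →
      run lk ((c.map fun i => (orb w start 7).getD i 0).foldr (· + ·) 0) =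
        run l ((c.map fun i => (orb w start 7).getD i 0).foldr (· + ·) 0) := by
    intro c hc7
    induction c with
    | nil => simp [run_zero]
    | cons i c ih =>
      have hlt : i < 7 := hc7 i List.mem_cons_self
      simp only [List.map_cons, List.foldr_cons, run_add]
      rw [ih fun j hj => hc7 j (List.mem_cons_of_mem _ hj)]
      congr 1
      rw [← horb i hlt, orb_getD w 7 i _ hlt, orb_getD w 7 i _ hlt, ← wordPerm_apply lk, hlk, hk]
      exact congrArg (fun σ : Equiv.Perm V => σ start) ((Commute.refl (wordPerm w)).pow_pow k i).eq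
  exact key c (hcs c hc')

theorem orderOf_wordPerm {w : List (ℕ × K3)} {p : ℕ} [Fact p.Prime]
    (h1 : agree (List.replicate p w).flatten [] = true) (h2 : agree w [] = false) :
    orderOf (wordPerm w) = p := by
  refine orderOf_eq_prime ?_ fun e => ?_
  · rw [← wordPerm_flatten, wordPerm_eq_of_agree h1]; rfl
  · rw [agree, List.all_eq_false] at h2
    obtain ⟨x, -, hx⟩ := h2
    refine hx (decide_eq_true ?_)
    rw [← wordPerm_apply, e]; rfl

/-- The centraliser of the element of order seven or thirteen. -/
theorem exists_self_centralizing (hinj : Function.Injective (rep ε)) {p : ℕ} (hp : p = 7 ∨ p = 13) :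
    ∃ g : chevG2.SteinbergGroup F, orderOf g = p ∧ ∀ x, Commute g x → x ∈ Subgroup.zpowers g := by
  have ho := order_check
  simp only [Bool.and_eq_true, Bool.not_eq_true'] at ho
  have hsp := spans_check
  rw [Bool.and_eq_true] at hsp
  obtain ⟨w, cs, hi, hs, hcs, hord, hlt⟩ : ∃ w cs, (∀ a, isolated w p a = true) ∧ spans w cs = true ∧
      (∀ c ∈ cs, ∀ i ∈ c, i < 7) ∧ orderOf (wordPerm w) = p ∧ ∀ q ∈ w, q.1 < chevG2.nroots := by
    rcases hp with rfl | rfl
    · have : Fact (Nat.Prime 7) := ⟨by norm_num⟩
      exact ⟨w7, cs7, isolated7, hsp.1, by decide, orderOf_wordPerm ho.1.1.1.1.1.1 ho.1.1.1.1.1.2,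
        by decide +kernel⟩
    · have : Fact (Nat.Prime 13) := ⟨by norm_num⟩
      exact ⟨w13, cs13, isolated13, hsp.2, by decide, orderOf_wordPerm ho.1.1.1.1.2 ho.1.1.1.2,
        by decide +kernel⟩
  obtain ⟨g, hg⟩ := exists_rep ε hlt
  refine ⟨g, by rw [← orderOf_injective (rep ε) hinj, hg, hord], fun x hx => ?_⟩
  obtain ⟨l, hl⟩ := exists_word ε x
  obtain ⟨k, hk⟩ := commute_mem (l := l) hi hs hcs (hg ▸ hl ▸ hx.map (rep ε))
  refine ⟨k, hinj ?_⟩
  simp only at hk ⊢
  rw [map_zpow, hg, hk, hl]

/-- An element of order six. -/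
theorem exists_six (hinj : Function.Injective (rep ε)) :
    ∃ g : chevG2.SteinbergGroup F, orderOf g = 6 := by
  obtain ⟨g, hg⟩ := exists_rep ε (l := w6) (by decide +kernel)
  have ho := order_check
  simp only [Bool.and_eq_true, Bool.not_eq_true'] at ho
  refine ⟨g, ?_⟩
  rw [← orderOf_injective (rep ε) hinj, hg, orderOf_eq_iff (by norm_num)]
  refine ⟨by rw [← wordPerm_flatten, wordPerm_eq_of_agree ho.1.1.2]; rfl, fun k hk hk0 e => ?_⟩
  have h6 : wordPerm w6 ^ 6 = 1 := by rw [← wordPerm_flatten, wordPerm_eq_of_agree ho.1.1.2]; rfl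
  have key : ∀ j, agree (List.replicate j w6).flatten [] = false → wordPerm w6 ^ j ≠ 1 := by
    intro j hj e
    rw [agree, List.all_eq_false] at hj
    obtain ⟨x, -, hx⟩ := hj
    refine hx (decide_eq_true ?_)
    rw [← wordPerm_apply, wordPerm_flatten, e]; rfl
  have h2 := key 2 ho.1.2
  have h3 := key 3 ho.2
  have hd : orderOf (wordPerm w6) ∣ Nat.gcd k 6 :=
    Nat.dvd_gcd (orderOf_dvd_of_pow_eq_one e) (orderOf_dvd_of_pow_eq_one h6)
  interval_cases k
  all_goals first
    | exact h2 (orderOf_dvd_iff_pow_eq_one.1 (hd.trans (by decide)))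
    | exact h3 (orderOf_dvd_iff_pow_eq_one.1 (hd.trans (by decide)))

end Cfsg.Agent.H90.G2Three
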